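import Mathlib
import Cfsg.Agent.Lib.Helper48.Ami.TopDefs
import Cfsg.Agent.S3359
import Cfsg.Agent.S4293

/-!
# Project AMI (S4294): assembly of the top part

`s4294_of` : the statement of S4294 from the packages `PkgTopM`, `PkgTop2`, `PkgCharP`
(and the landed S3359, S4293).
-/

namespace Cfsg.Agent.Lib.Helper48.AmiTop

universe u

theorem s4294_of (hM : PkgTopM.{u}) (h2 : PkgTop2.{u}) (hP : PkgCharP.{u})
    {D : Type u} [DivisionRing D] (H : Subgroup Dˣ) [Finite H] (hH : ¬ Group.IsSolvable H) :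
    Nonempty (H ≃* Matrix.SpecialLinearGroup (Fin 2) (ZMod 5)) := by
  classical
  obtain ⟨p, hp⟩ := CharP.exists D
  rcases CharP.char_is_prime_or_zero D p with hpp | hp0
  · exfalso
    haveI := Fact.mk hpp
    apply hH
    have hc := hP D p H inferInstance
    exact isSolvable_of_comm (fun a b => Subtype.ext (hc a a.2 b b.2))
  · subst hp0
    haveI : CharZero D := CharP.charP_to_charZero D
    have hne : H ≠ ⊥ := by
      rintro rfl
      exact hH inferInstance
    obtain ⟨L, iL, fL, C, hC, ⟨iso⟩⟩ := Cfsg.Agent.S4293.result H hne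
    obtain ⟨G₀, hG₀n, hidx, S, M, hSM, hdisj, hcomm, ⟨e⟩, hcyc, hcop⟩ :=
      Cfsg.Agent.S3359.result (G := ↥H) hH ⟨L, iL, fL, C, hC, ⟨iso⟩⟩
    have hMbot : M = ⊥ := hM D H S M hcomm ⟨e⟩ inferInstance hcop
    subst hMbot
    have hS : S = G₀ := by simpa using hSM
    subst hS
    rcases hidx with h1 | h2'
    · have htop : S = ⊤ := Subgroup.index_eq_one.mp h1
      subst htop
      exact ⟨(Subgroup.topEquiv.symm).trans e⟩
    · exact (h2 D H S hG₀n h2' ⟨e⟩).elim

end Cfsg.Agent.Lib.Helper48.AmiTop
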